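import Cfsg.Agent.H5.Ch.Dat
import Cfsg.Prelude.Def_ChevE8

/-!
The root datum of type E8.
-/

set_option autoImplicit false
set_option maxRecDepth 100000

namespace Cfsg.Agent.H5.Ch

open Matrix Cfsg.Lie SLD

/-- The roots. -/
def rlE8 : List (List ℤ) := [
  [-2, -3, -4, -6, -5, -4, -3, -2], [-2, -3, -4, -6, -5, -4, -3, -1], [-2, -3, -4, -6, -5, -4, -2, -1], [-2, -3, -4, -6, -5, -3, -2, -1],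
  [-2, -3, -4, -6, -4, -3, -2, -1], [-2, -3, -4, -5, -4, -3, -2, -1], [-2, -3, -3, -5, -4, -3, -2, -1], [-2, -2, -4, -5, -4, -3, -2, -1],
  [-2, -2, -3, -5, -4, -3, -2, -1], [-2, -2, -3, -4, -4, -3, -2, -1], [-2, -2, -3, -4, -3, -3, -2, -1], [-2, -2, -3, -4, -3, -2, -2, -1],
  [-2, -2, -3, -4, -3, -2, -1, -1], [-2, -2, -3, -4, -3, -2, -1, 0], [-1, -3, -3, -5, -4, -3, -2, -1], [-1, -2, -3, -5, -4, -3, -2, -1],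
  [-1, -2, -3, -4, -4, -3, -2, -1], [-1, -2, -3, -4, -3, -3, -2, -1], [-1, -2, -3, -4, -3, -2, -2, -1], [-1, -2, -3, -4, -3, -2, -1, -1],
  [-1, -2, -3, -4, -3, -2, -1, 0], [-1, -2, -2, -4, -4, -3, -2, -1], [-1, -2, -2, -4, -3, -3, -2, -1], [-1, -2, -2, -4, -3, -2, -2, -1],
  [-1, -2, -2, -4, -3, -2, -1, -1], [-1, -2, -2, -4, -3, -2, -1, 0], [-1, -2, -2, -3, -3, -3, -2, -1], [-1, -2, -2, -3, -3, -2, -2, -1],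
  [-1, -2, -2, -3, -3, -2, -1, -1], [-1, -2, -2, -3, -3, -2, -1, 0], [-1, -2, -2, -3, -2, -2, -2, -1], [-1, -2, -2, -3, -2, -2, -1, -1],
  [-1, -2, -2, -3, -2, -2, -1, 0], [-1, -2, -2, -3, -2, -1, -1, -1], [-1, -2, -2, -3, -2, -1, -1, 0], [-1, -2, -2, -3, -2, -1, 0, 0],
  [-1, -1, -2, -3, -3, -3, -2, -1], [-1, -1, -2, -3, -3, -2, -2, -1], [-1, -1, -2, -3, -3, -2, -1, -1], [-1, -1, -2, -3, -3, -2, -1, 0],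
  [-1, -1, -2, -3, -2, -2, -2, -1], [-1, -1, -2, -3, -2, -2, -1, -1], [-1, -1, -2, -3, -2, -2, -1, 0], [-1, -1, -2, -3, -2, -1, -1, -1],
  [-1, -1, -2, -3, -2, -1, -1, 0], [-1, -1, -2, -3, -2, -1, 0, 0], [-1, -1, -2, -2, -2, -2, -2, -1], [-1, -1, -2, -2, -2, -2, -1, -1],
  [-1, -1, -2, -2, -2, -2, -1, 0], [-1, -1, -2, -2, -2, -1, -1, -1], [-1, -1, -2, -2, -2, -1, -1, 0], [-1, -1, -2, -2, -2, -1, 0, 0],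
  [-1, -1, -2, -2, -1, -1, -1, -1], [-1, -1, -2, -2, -1, -1, -1, 0], [-1, -1, -2, -2, -1, -1, 0, 0], [-1, -1, -2, -2, -1, 0, 0, 0],
  [-1, -1, -1, -2, -2, -2, -2, -1], [-1, -1, -1, -2, -2, -2, -1, -1], [-1, -1, -1, -2, -2, -2, -1, 0], [-1, -1, -1, -2, -2, -1, -1, -1],
  [-1, -1, -1, -2, -2, -1, -1, 0], [-1, -1, -1, -2, -2, -1, 0, 0], [-1, -1, -1, -2, -1, -1, -1, -1], [-1, -1, -1, -2, -1, -1, -1, 0],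
  [-1, -1, -1, -2, -1, -1, 0, 0], [-1, -1, -1, -2, -1, 0, 0, 0], [-1, -1, -1, -1, -1, -1, -1, -1], [-1, -1, -1, -1, -1, -1, -1, 0],
  [-1, -1, -1, -1, -1, -1, 0, 0], [-1, -1, -1, -1, -1, 0, 0, 0], [-1, -1, -1, -1, 0, 0, 0, 0], [-1, 0, -1, -1, -1, -1, -1, -1],
  [-1, 0, -1, -1, -1, -1, -1, 0], [-1, 0, -1, -1, -1, -1, 0, 0], [-1, 0, -1, -1, -1, 0, 0, 0], [-1, 0, -1, -1, 0, 0, 0, 0],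
  [-1, 0, -1, 0, 0, 0, 0, 0], [-1, 0, 0, 0, 0, 0, 0, 0], [0, -1, -1, -2, -2, -2, -2, -1], [0, -1, -1, -2, -2, -2, -1, -1],
  [0, -1, -1, -2, -2, -2, -1, 0], [0, -1, -1, -2, -2, -1, -1, -1], [0, -1, -1, -2, -2, -1, -1, 0], [0, -1, -1, -2, -2, -1, 0, 0],
  [0, -1, -1, -2, -1, -1, -1, -1], [0, -1, -1, -2, -1, -1, -1, 0], [0, -1, -1, -2, -1, -1, 0, 0], [0, -1, -1, -2, -1, 0, 0, 0],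
  [0, -1, -1, -1, -1, -1, -1, -1], [0, -1, -1, -1, -1, -1, -1, 0], [0, -1, -1, -1, -1, -1, 0, 0], [0, -1, -1, -1, -1, 0, 0, 0],
  [0, -1, -1, -1, 0, 0, 0, 0], [0, -1, 0, -1, -1, -1, -1, -1], [0, -1, 0, -1, -1, -1, -1, 0], [0, -1, 0, -1, -1, -1, 0, 0],
  [0, -1, 0, -1, -1, 0, 0, 0], [0, -1, 0, -1, 0, 0, 0, 0], [0, -1, 0, 0, 0, 0, 0, 0], [0, 0, -1, -1, -1, -1, -1, -1],
  [0, 0, -1, -1, -1, -1, -1, 0], [0, 0, -1, -1, -1, -1, 0, 0], [0, 0, -1, -1, -1, 0, 0, 0], [0, 0, -1, -1, 0, 0, 0, 0],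
  [0, 0, -1, 0, 0, 0, 0, 0], [0, 0, 0, -1, -1, -1, -1, -1], [0, 0, 0, -1, -1, -1, -1, 0], [0, 0, 0, -1, -1, -1, 0, 0],
  [0, 0, 0, -1, -1, 0, 0, 0], [0, 0, 0, -1, 0, 0, 0, 0], [0, 0, 0, 0, -1, -1, -1, -1], [0, 0, 0, 0, -1, -1, -1, 0],
  [0, 0, 0, 0, -1, -1, 0, 0], [0, 0, 0, 0, -1, 0, 0, 0], [0, 0, 0, 0, 0, -1, -1, -1], [0, 0, 0, 0, 0, -1, -1, 0],
  [0, 0, 0, 0, 0, -1, 0, 0], [0, 0, 0, 0, 0, 0, -1, -1], [0, 0, 0, 0, 0, 0, -1, 0], [0, 0, 0, 0, 0, 0, 0, -1],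
  [0, 0, 0, 0, 0, 0, 0, 1], [0, 0, 0, 0, 0, 0, 1, 0], [0, 0, 0, 0, 0, 0, 1, 1], [0, 0, 0, 0, 0, 1, 0, 0],
  [0, 0, 0, 0, 0, 1, 1, 0], [0, 0, 0, 0, 0, 1, 1, 1], [0, 0, 0, 0, 1, 0, 0, 0], [0, 0, 0, 0, 1, 1, 0, 0],
  [0, 0, 0, 0, 1, 1, 1, 0], [0, 0, 0, 0, 1, 1, 1, 1], [0, 0, 0, 1, 0, 0, 0, 0], [0, 0, 0, 1, 1, 0, 0, 0],
  [0, 0, 0, 1, 1, 1, 0, 0], [0, 0, 0, 1, 1, 1, 1, 0], [0, 0, 0, 1, 1, 1, 1, 1], [0, 0, 1, 0, 0, 0, 0, 0],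
  [0, 0, 1, 1, 0, 0, 0, 0], [0, 0, 1, 1, 1, 0, 0, 0], [0, 0, 1, 1, 1, 1, 0, 0], [0, 0, 1, 1, 1, 1, 1, 0],
  [0, 0, 1, 1, 1, 1, 1, 1], [0, 1, 0, 0, 0, 0, 0, 0], [0, 1, 0, 1, 0, 0, 0, 0], [0, 1, 0, 1, 1, 0, 0, 0],
  [0, 1, 0, 1, 1, 1, 0, 0], [0, 1, 0, 1, 1, 1, 1, 0], [0, 1, 0, 1, 1, 1, 1, 1], [0, 1, 1, 1, 0, 0, 0, 0],
  [0, 1, 1, 1, 1, 0, 0, 0], [0, 1, 1, 1, 1, 1, 0, 0], [0, 1, 1, 1, 1, 1, 1, 0], [0, 1, 1, 1, 1, 1, 1, 1],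
  [0, 1, 1, 2, 1, 0, 0, 0], [0, 1, 1, 2, 1, 1, 0, 0], [0, 1, 1, 2, 1, 1, 1, 0], [0, 1, 1, 2, 1, 1, 1, 1],
  [0, 1, 1, 2, 2, 1, 0, 0], [0, 1, 1, 2, 2, 1, 1, 0], [0, 1, 1, 2, 2, 1, 1, 1], [0, 1, 1, 2, 2, 2, 1, 0],
  [0, 1, 1, 2, 2, 2, 1, 1], [0, 1, 1, 2, 2, 2, 2, 1], [1, 0, 0, 0, 0, 0, 0, 0], [1, 0, 1, 0, 0, 0, 0, 0],
  [1, 0, 1, 1, 0, 0, 0, 0], [1, 0, 1, 1, 1, 0, 0, 0], [1, 0, 1, 1, 1, 1, 0, 0], [1, 0, 1, 1, 1, 1, 1, 0],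
  [1, 0, 1, 1, 1, 1, 1, 1], [1, 1, 1, 1, 0, 0, 0, 0], [1, 1, 1, 1, 1, 0, 0, 0], [1, 1, 1, 1, 1, 1, 0, 0],
  [1, 1, 1, 1, 1, 1, 1, 0], [1, 1, 1, 1, 1, 1, 1, 1], [1, 1, 1, 2, 1, 0, 0, 0], [1, 1, 1, 2, 1, 1, 0, 0],
  [1, 1, 1, 2, 1, 1, 1, 0], [1, 1, 1, 2, 1, 1, 1, 1], [1, 1, 1, 2, 2, 1, 0, 0], [1, 1, 1, 2, 2, 1, 1, 0],
  [1, 1, 1, 2, 2, 1, 1, 1], [1, 1, 1, 2, 2, 2, 1, 0], [1, 1, 1, 2, 2, 2, 1, 1], [1, 1, 1, 2, 2, 2, 2, 1],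
  [1, 1, 2, 2, 1, 0, 0, 0], [1, 1, 2, 2, 1, 1, 0, 0], [1, 1, 2, 2, 1, 1, 1, 0], [1, 1, 2, 2, 1, 1, 1, 1],
  [1, 1, 2, 2, 2, 1, 0, 0], [1, 1, 2, 2, 2, 1, 1, 0], [1, 1, 2, 2, 2, 1, 1, 1], [1, 1, 2, 2, 2, 2, 1, 0],
  [1, 1, 2, 2, 2, 2, 1, 1], [1, 1, 2, 2, 2, 2, 2, 1], [1, 1, 2, 3, 2, 1, 0, 0], [1, 1, 2, 3, 2, 1, 1, 0],
  [1, 1, 2, 3, 2, 1, 1, 1], [1, 1, 2, 3, 2, 2, 1, 0], [1, 1, 2, 3, 2, 2, 1, 1], [1, 1, 2, 3, 2, 2, 2, 1],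
  [1, 1, 2, 3, 3, 2, 1, 0], [1, 1, 2, 3, 3, 2, 1, 1], [1, 1, 2, 3, 3, 2, 2, 1], [1, 1, 2, 3, 3, 3, 2, 1],
  [1, 2, 2, 3, 2, 1, 0, 0], [1, 2, 2, 3, 2, 1, 1, 0], [1, 2, 2, 3, 2, 1, 1, 1], [1, 2, 2, 3, 2, 2, 1, 0],
  [1, 2, 2, 3, 2, 2, 1, 1], [1, 2, 2, 3, 2, 2, 2, 1], [1, 2, 2, 3, 3, 2, 1, 0], [1, 2, 2, 3, 3, 2, 1, 1],
  [1, 2, 2, 3, 3, 2, 2, 1], [1, 2, 2, 3, 3, 3, 2, 1], [1, 2, 2, 4, 3, 2, 1, 0], [1, 2, 2, 4, 3, 2, 1, 1],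
  [1, 2, 2, 4, 3, 2, 2, 1], [1, 2, 2, 4, 3, 3, 2, 1], [1, 2, 2, 4, 4, 3, 2, 1], [1, 2, 3, 4, 3, 2, 1, 0],
  [1, 2, 3, 4, 3, 2, 1, 1], [1, 2, 3, 4, 3, 2, 2, 1], [1, 2, 3, 4, 3, 3, 2, 1], [1, 2, 3, 4, 4, 3, 2, 1],
  [1, 2, 3, 5, 4, 3, 2, 1], [1, 3, 3, 5, 4, 3, 2, 1], [2, 2, 3, 4, 3, 2, 1, 0], [2, 2, 3, 4, 3, 2, 1, 1],
  [2, 2, 3, 4, 3, 2, 2, 1], [2, 2, 3, 4, 3, 3, 2, 1], [2, 2, 3, 4, 4, 3, 2, 1], [2, 2, 3, 5, 4, 3, 2, 1],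
  [2, 2, 4, 5, 4, 3, 2, 1], [2, 3, 3, 5, 4, 3, 2, 1], [2, 3, 4, 5, 4, 3, 2, 1], [2, 3, 4, 6, 4, 3, 2, 1],
  [2, 3, 4, 6, 5, 3, 2, 1], [2, 3, 4, 6, 5, 4, 2, 1], [2, 3, 4, 6, 5, 4, 3, 1], [2, 3, 4, 6, 5, 4, 3, 2]]

/-- The Cartan matrix. -/
def clE8 : List (List ℤ) := [[2, 0, -1, 0, 0, 0, 0, 0], [0, 2, 0, -1, 0, 0, 0, 0], [-1, 0, 2, -1, 0, 0, 0, 0], [0, -1, -1, 2, -1, 0, 0, 0], [0, 0, 0, -1, 2, -1, 0, 0], [0, 0, 0, 0, -1, 2, -1, 0], [0, 0, 0, 0, 0, -1, 2, -1], [0, 0, 0, 0, 0, 0, -1, 2]]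

/-- The root lattice. -/
def latE8 : Lat 8 where
  C := cmat 8 clE8
  symm i j := by fin_cases i <;> fin_cases j <;> rfl
  diag := by decide
  off i j := by fin_cases i <;> fin_cases j <;> decide
  pos v hv := by
    by_contra! h
    have e : 60 * (v ⬝ᵥ cmat 8 clE8 *ᵥ v) = 30 * ((2) * v 0 + (-1) * v 2) ^ 2 +
        10 * ((3) * v 2 + (-2) * v 3) ^ 2 +
        30 * ((2) * v 1 + (-1) * v 3) ^ 2 +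
        30 * ((-1) * v 6 + (2) * v 7) ^ 2 +
        10 * ((-2) * v 5 + (3) * v 6) ^ 2 +
        5 * ((-3) * v 4 + (4) * v 5) ^ 2 +
        3 * ((-4) * v 3 + (5) * v 4) ^ 2 +
        2 * ((1) * v 3) ^ 2 := by
      simp [cmat, vec, clE8, dotProduct, mulVec, Fin.sum_univ_succ]
      ring
    have h0 := sq_nonneg ((2) * v 0 + (-1) * v 2)
    have h1 := sq_nonneg ((3) * v 2 + (-2) * v 3)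
    have h2 := sq_nonneg ((2) * v 1 + (-1) * v 3)
    have h3 := sq_nonneg ((-1) * v 6 + (2) * v 7)
    have h4 := sq_nonneg ((-2) * v 5 + (3) * v 6)
    have h5 := sq_nonneg ((-3) * v 4 + (4) * v 5)
    have h6 := sq_nonneg ((-4) * v 3 + (5) * v 4)
    have h7 := sq_nonneg ((1) * v 3)
    have k0 := pow_eq_zero_iff two_ne_zero |>.1 (show ((2) * v 0 + (-1) * v 2) ^ 2 = 0 by omega)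
    have k1 := pow_eq_zero_iff two_ne_zero |>.1 (show ((3) * v 2 + (-2) * v 3) ^ 2 = 0 by omega)
    have k2 := pow_eq_zero_iff two_ne_zero |>.1 (show ((2) * v 1 + (-1) * v 3) ^ 2 = 0 by omega)
    have k3 := pow_eq_zero_iff two_ne_zero |>.1 (show ((-1) * v 6 + (2) * v 7) ^ 2 = 0 by omega)
    have k4 := pow_eq_zero_iff two_ne_zero |>.1 (show ((-2) * v 5 + (3) * v 6) ^ 2 = 0 by omega)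
    have k5 := pow_eq_zero_iff two_ne_zero |>.1 (show ((-3) * v 4 + (4) * v 5) ^ 2 = 0 by omega)
    have k6 := pow_eq_zero_iff two_ne_zero |>.1 (show ((-4) * v 3 + (5) * v 4) ^ 2 = 0 by omega)
    have k7 := pow_eq_zero_iff two_ne_zero |>.1 (show ((1) * v 3) ^ 2 = 0 by omega)
    refine hv (funext fun i => ?_)
    fin_cases i <;> simp <;> omega

end Cfsg.Agent.H5.Ch
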