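import Cfsg.Agent.H5.Ch.Fold

/-!
Tables for the group of type F4.
-/

set_option autoImplicit false
set_option maxRecDepth 100000

namespace Cfsg.Agent.H5.Ch

open Matrix Cfsg.Lie SLD

/-- table -/
def gF4 (s : ℕ) : ℕ := [0, 1, 2, 5, 16, 3, 6, 17, 8, 19, 22, 11, 26, 30, 33, 35, 4, 7, 18, 9, 20, 23, 10, 21, 24, 25,
  12, 27, 31, 34, 13, 28, 32, 14, 29, 15, 56, 42, 57, 39, 43, 58, 37, 40, 44, 59, 46, 47, 50, 61,
  48, 51, 62, 53, 64, 67, 36, 38, 41, 45, 60, 49, 52, 63, 54, 65, 68, 55, 66, 69, 70, 71].getD s 0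

/-- table -/
def kF4 (s : ℕ) : ℕ := [0, 1, 2, 3, 7, 3, 4, 8, 5, 9, 11, 6, 10, 12, 13, 14, 7, 8, 15, 9, 16, 18, 11, 18, 21, 23, 10,
  17, 19, 20, 12, 19, 22, 13, 20, 14, 33, 27, 34, 25, 28, 35, 27, 28, 30, 37, 24, 26, 29, 36, 29,
  31, 38, 32, 39, 40, 33, 34, 35, 37, 41, 36, 38, 42, 39, 43, 44, 40, 44, 45, 46, 47].getD s 0

/-- table -/
def jF4 (s : ℕ) : List ℕ := [[0, 5], [2, 4], [3], [1], [6], [7], [8], [9, 11], [12], [14], [17], [10, 22], [13, 23], [15,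
  25], [18, 32], [16, 28], [19, 36], [20, 39], [21, 41], [24], [26], [33], [27, 29], [34, 37],
  [35, 40], [30], [38], [31], [52], [45], [53], [43, 48], [46, 49], [54, 56], [50], [57], [59],
  [42, 62], [44, 63], [47, 64], [55, 67], [51, 65], [58, 68], [60, 70], [61, 73], [66], [69],
  [71], [72, 74], [75], [76], [77]].getD s []

/-- table -/
def pF4 (s : ℕ) : ℕ := [0, 2, 3, 1, 6, 7, 8, 9, 12, 14, 17, 10, 13, 15, 18, 16, 19, 20, 21, 24, 26, 33, 27, 34, 35, 30,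
  38, 31, 52, 45, 53, 43, 46, 54, 50, 57, 59, 42, 44, 47, 55, 51, 58, 60, 61, 66, 69, 71, 72, 75,
  76, 77].getD s 0

/-- table -/
def wF4 (s : ℕ) : ℕ := [48, 40, 37, 36, 35, 38, 29, 29, 28, 28, 26, 21, 21, 19, 17, 16, 15, 14, 14, 13, 13, 12, 12, 13,
  12, 12, 10, 10, 9, 7, 9, 10, 9, 7, 10, 4, 3, 9, 5, 7, 7, 5, 4, 4, 4, 3, 9, 7, 7, 5, 4, 4, 3, 4,
  3, 5, 5, 3, 3, 4, 3, 3, 4, 3, 4, 3, 7, 3, 4, 3, 3, 3].getD s 0

/-- table -/
def piF4 (s : ℕ) : ℕ := [3, 2, 1, 0, 7, 11, 12, 4, 13, 15, 22, 5, 6, 8, 19, 9, 20, 25, 27, 14, 16,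
  23, 10, 21, 26, 17, 24, 18, 37, 31, 38, 29, 34, 45, 32, 39, 41, 28, 30, 35, 46, 36, 47, 49, 50, 33,
  40, 42, 51, 43, 44, 48].getD s 0

/-- Short roots and coroots. -/
def shF4 (s : ℕ) : Bool := (jF4 s).length == 2

/-- The check of the intertwining relation. -/
def relF4 (s : ℕ) : Prop := ∀ c < chevF4.rank + chevF4.nroots, evn ((orbF gF4 s).foldr
    (fun r => ap (chevE6.rank + chevE6.nroots) (cl chevE6 r)) ((jF4 c).map (·, 0)) ++
      ap (chevF4.rank + chevF4.nroots) (fun u => (jF4 u).map (·, 0)) (cl chevF4 (kF4 s) c)) = true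

instance (s : ℕ) : Decidable (relF4 s) := by unfold relF4; infer_instance

theorem relF4_0 : ∀ s < 18, relF4 (0 + s) := by decide +kernel

theorem relF4_1 : ∀ s < 18, relF4 (18 + s) := by decide +kernel

theorem relF4_2 : ∀ s < 18, relF4 (36 + s) := by decide +kernel

theorem relF4_3 : ∀ s < 18, relF4 (54 + s) := by decide +kernel

theorem fldF4 : Fld chevE6 chevF4 gF4 kF4 pF4 jF4 where
  lt := by decide +kernel
  inv := by decide +kernel
  rel s hs := by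
    change s < 72 at hs
    change relF4 s
    rcases (by omega : s < 18 ∨ 18 ≤ s ∧ s < 36 ∨ 36 ≤ s ∧ s < 54 ∨ 54 ≤ s) with h | h | h | h
    · simpa using relF4_0 s h
    · simpa [h.1] using relF4_1 (s - 18) (by omega)
    · simpa [h.1] using relF4_2 (s - 36) (by omega)
    · simpa [h] using relF4_3 (s - 54) (by omega)

theorem fthF4 : Fth chevE6 chevF4 clE6 rlE6 kF4 jF4 (fun s => shF4 (4 + kF4 s)) wF4 where
  one := by decide +kernel
  hgt := by decide +kernel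
  neg := by decide +kernel
  gen := by decide +kernel
  wit := by decide +kernel

theorem gamF4 : ∀ s < chevE6.nroots, vec _ (rlE6.getD (gF4 s) []) =
    twE6.gam (vec _ (rlE6.getD s [])) := by decide +kernel

theorem tauF4 : ∀ r < 48, ∀ c < 52, shF4 c → (∀ e ∈ cl chevF4 r c, shF4 e.1) ∧
    evn (((cl chevF4 (piF4 (4 + r) - 4) c).map fun e => (e.1, if shF4 (4 + r) then 2 * e.2 else e.2)) ++
      (((cl chevF4 r (piF4 c)).filter fun e => !shF4 e.1).map fun e => (piF4 e.1, e.2))) := by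
  decide +kernel

end Cfsg.Agent.H5.Ch
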