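import Cfsg.Agent.H5.Ch.Frob

/-!
Regular elements and fixed roots.
-/

set_option autoImplicit false
set_option linter.unusedSectionVars false
set_option linter.unusedSimpArgs false

namespace Cfsg.Agent.H5.Ch

open Matrix
open scoped MatrixGroups

namespace SLD

variable {l n : ℕ} {R : SLD l n} {F : Type*} [Field F] [CharP F 2]

theorem exists_reg (v : Fin l → ℤ) (hv : ∀ i, R.B (al i) v = 2)
    (hb : ∀ r, -17 ≤ ht (R.rt r) ∧ ht (R.rt r) ≤ 17) {t : F} {N : ℕ} (hN0 : N ≠ 0)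
    (ht : IsPrimitiveRoot t N) (hN : ∀ x : ℤ, (N : ℤ) ∣ 2 * x → -34 ≤ x → x ≤ 34 → x = 0) :
    ∃ h : GL (Fin l ⊕ Fin n) F, R.IsReg h ∧ h ^ N = 1 := by
  have h0 := ht.ne_zero hN0
  obtain ⟨h, h1, h2⟩ := exists_H (R := R) v h0
  have h3 : ∀ s, R.B s v = 2 * Ch.ht s := fun s => by
    simp only [Lat.B_eq_sum _ s, hv, ht_apply, ← Finset.sum_mul, mul_comm (2 : ℤ)]
  have h4 : h.1 = diagonal fun i => t ^ (2 * R.htI i) := by
    rw [h2.val_eq]
    congr 1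
    ext (i | i) <;> simp [h3]
  have h5 : ∀ i, -17 ≤ R.htI i ∧ R.htI i ≤ 17 := by
    rintro (i | i)
    · simp
    · exact hb i
  refine ⟨h, ⟨⟨h1, _, h2⟩, fun i j e => ?_⟩, Units.ext ?_⟩
  · rw [h4, diagonal_apply_eq, diagonal_apply_eq, ← div_eq_one_iff_eq (zpow_ne_zero _ h0),
      ← zpow_sub₀ h0, ht.zpow_eq_one_iff_dvd, ← mul_sub] at e
    have := h5 i
    have := h5 j
    have := hN _ e
    omega
  · rw [Units.val_pow_eq_pow_val, h4, diagonal_pow, Units.val_one, ← diagonal_one]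
    congr 1
    ext i
    rw [Pi.pow_apply, ← zpow_natCast, ← _root_.zpow_mul, mul_comm, _root_.zpow_mul, zpow_natCast,
      ht.pow_eq_one, _root_.one_zpow]

theorem exists_perm {w : (Fin l → ℤ) ≃ₗ[ℤ] (Fin l → ℤ)} (hw : ∀ u v, R.B (w u) (w v) = R.B u v) :
    ∃ π : Equiv.Perm (Fin n), ∀ r, R.rt (π r) = w (R.rt r) :=
  ⟨Equiv.ofBijective (fun r => R.ix (v := w (R.rt r)) (by rw [hw, R.norm]))
    (Finite.injective_iff_bijective.1 fun r r' e => by
      simpa [R.inj.eq_iff] using congrArg R.rt e), fun r => by simp⟩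

theorem fix_vec {w : (Fin l → ℤ) ≃ₗ[ℤ] (Fin l → ℤ)} (hw : ∀ u v, R.B (w u) (w v) = R.B u v)
    (h5 : w ^ 5 = 1) {X : Type*} [DecidableEq X] (I : (Fin l → ℤ) → X)
    (hI : ∀ r, R.B r r = 2 → I (w r) = I r) {v : Fin l → ℤ} (hv : R.B v v = 2)
    (h : ∑ r, (if I (R.rt r) = I v then 1 else 0) < 5) : w v = v := by
  let S : Set (Fin l → ℤ) := R.rt '' (Finset.univ.filter fun r => I (R.rt r) = I v)
  have hS : ∀ u, u ∈ S ↔ R.B u u = 2 ∧ I u = I v := fun u => ⟨by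
    rintro ⟨r, hr, rfl⟩
    exact ⟨R.norm r, by simpa using hr⟩, fun ⟨h1, h2⟩ => ⟨R.ix h1, by simpa using h2, R.rt_ix h1⟩⟩
  have h1 : S.ncard < 5 := by
    rwa [Set.ncard_image_of_injective _ R.inj, Set.ncard_coe_finset, Finset.card_filter]
  have h2 := H4.Basic.ncard_modEq_fixed_elt (k := 1) Nat.prime_five h5 S (Set.toFinite _)
    fun u hu => (hS _).2 ⟨(hw u u).trans ((hS u).1 hu).1,
      (hI u ((hS u).1 hu).1).trans ((hS u).1 hu).2⟩
  have h3 := Set.ncard_le_ncard (Set.sep_subset S fun u => w • u = u) (Set.toFinite _)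
  have h4 := Set.eq_of_subset_of_ncard_le (Set.sep_subset S fun u => w • u = u)
    (Nat.ModEq.eq_of_lt_of_lt h2 h1 (by omega)).le (Set.toFinite _)
  exact (h4.ge ((hS v).2 ⟨hv, rfl⟩)).2

end SLD

end Cfsg.Agent.H5.Ch
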